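import Cfsg.Agent.Lib.Fi23Syl.Defs

/-!
Checks on the action of the residues on the elementary abelian subgroup.
-/

set_option autoImplicit false

namespace CfsgLib.Fi23Syl

open CfsgLib.CosetEnum

theorem kind_ok : allBelow 128 kindOK = true := by decide +kernel
theorem four_ok : allBelow 27 fourOK = true := by decide +kernel
theorem four_lt : allBelow 27 (fun i => allBelow 4 fun k =>
    Nat.blt (nth (nthWord fourVecs i) k 0) 2048) = true := by decide +kernel
theorem cand_lt : allBelow 27 (fun i => Nat.blt (nth cand i 128) 128) = true := by decide +kernel
theorem mat_lt : allBelow 7 (fun k => allBelow 11 fun j => Nat.blt (mat k j) 2048) = true := by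
  decide +kernel
theorem act_tab : allBelow 128 (fun e => Nat.beq (packAct e) (nth actTab e 0)) = true := by
  decide +kernel
theorem act_tab_nodup : noDup actTab = true := by decide +kernel
theorem act_tab_len : actTab.length = 128 := by decide +kernel

end CfsgLib.Fi23Syl
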