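import Cfsg.Agent.Lib.Fi23Syl.Defs

/-!
Distinct candidates have distinct fixed spaces.
-/

set_option autoImplicit false

namespace CfsgLib.Fi23Syl

theorem sep_ok : allBelow 27 (fun i => allBelow 27 fun j => sepOK i j) = true := by decide +kernel

end CfsgLib.Fi23Syl
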