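import Cfsg.Agent.Lib.Fi23Syl.Defs
import Cfsg.Agent.Lib.Fi23Pres.Main
import Cfsg.Agent.Lib.CosetEnum.OutThree

/-!
Identities between words in the presented group Fi23.
-/

set_option autoImplicit false

namespace CfsgLib.Fi23Syl

open CfsgLib.CosetEnum CfsgLib.Fi23Pres

/-- two words agree on the base -/
noncomputable def same (u w : List ℕ) : Bool :=
  (u.all fun g => Nat.blt g 10) && (w.all fun g => Nat.blt g 10) && sameBases certA levels u w

/-- packed images of the base points -/
noncomputable def packBase (w : List ℕ) : ℕ :=
  levels.foldr (fun l acc => certA.run l.base (certA.revInv w) + 32768 * acc) 0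

/-- the indices of the tabulated elements -/
def tabIdx (i : ℕ) : ℕ := if i < 64 then i else (i - 63) * 64

theorem basis_sq : allBelow 11 (fun i => same (bW i ++ bW i) []) = true := by decide +kernel
theorem basis_comm : allBelow 11 (fun i => allBelow i fun j => same (bW i ++ bW j) (bW j ++ bW i)) = true := by
  decide +kernel
theorem gen_conj : allBelow 7 (fun k => allBelow 11 fun j =>
    same (gW k ++ bW j) (aW (mat k j) ++ gW k)) = true := by decide +kernel
theorem gen_square : allBelow 7 (fun k => Nat.blt (sqForm.getD k (0, 128)).1 2048 &&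
    Nat.blt (sqForm.getD k (0, 128)).2 (2 ^ k) &&
    same (gW k ++ gW k) (aW (sqForm.getD k (0, 128)).1 ++ rW k (sqForm.getD k (0, 128)).2)) = true := by
  decide +kernel
theorem gen_pair : allBelow 7 (fun k => allBelow k fun j =>
    Nat.blt ((cjForm.getD k []).getD j (0, 128)).1 2048 &&
    Nat.blt ((cjForm.getD k []).getD j (0, 128)).2 (2 ^ k) &&
    same (gW k ++ gW j) (aW ((cjForm.getD k []).getD j (0, 128)).1 ++
      rW k ((cjForm.getD k []).getD j (0, 128)).2 ++ gW k)) = true := by decide +kernel
theorem tab_len : baseTab.length = 95 := by decide +kernel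
theorem tab_ok : allBelow 95 (fun i => Nat.beq (packBase (aW (tabIdx i))) (nth baseTab i 0)) = true := by
  decide +kernel
theorem tab_nodup : noDup baseTab = true := by decide +kernel

end CfsgLib.Fi23Syl
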