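import Cfsg.Prelude.Def_Transfer
import Cfsg.Agent.Lib.Fi23Syl.CheckLin
import Cfsg.Agent.Lib.Fi23Syl.CheckSep
import Cfsg.Agent.Lib.Fi23Syl.CheckWords

/-!
A Sylow 2-subgroup of Fi23 has a single normal elementary abelian subgroup of order 2^11 and none larger.

The Sylow subgroup is `A · R` with `A` elementary abelian of order `2^11` and 128 residues `R`. A normal
elementary abelian subgroup `B` meets `A` in the common fixed space of its residues, and the residues
occurring are among 27 candidates with pairwise different fixed spaces of order at most 128.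
-/

set_option autoImplicit false

namespace CfsgLib.Fi23Syl

open CfsgLib.CosetEnum CfsgLib.Fi23Pres Cfsg.Spor

theorem prodW_wUp (W : ℕ → List ℕ) : ∀ n v,
    prodW gen (wUp W n v) = pUp (fun k => prodW gen (W k)) n v
  | 0, _ => prodW_nil _
  | n + 1, v => by
    rw [wUp, prodW_append, prodW_wUp W n v, pUp]
    cases v.testBit n <;> simp

theorem same_eq {u w : List ℕ} (h : same u w = true) : prodW gen u = prodW gen w := by
  simp only [same, Bool.and_eq_true, List.all_eq_true, Nat.blt_eq] at h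
  exact setupA.eq_of_bases chain_ok (chain_size.trans card_faithful.1.symm)
    (fun g hg => h.1.1 g hg) (fun g hg => h.1.2 g hg) h.2

/-- a basis element -/
noncomputable def bG (k : ℕ) : Fi23 := prodW gen (bW k)

/-- a further generator -/
noncomputable def gG (k : ℕ) : Fi23 := prodW gen (gW k)

/-- an element of the elementary abelian subgroup -/
noncomputable def aG (v : ℕ) : Fi23 := pUp bG 11 v

/-- a residue -/
noncomputable def rG (e : ℕ) : Fi23 := pUp gG 7 e

theorem prodW_aW (v : ℕ) : prodW gen (aW v) = aG v := prodW_wUp bW 11 v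

theorem prodW_rW (n e : ℕ) : prodW gen (rW n e) = pUp gG n e := prodW_wUp gW n e

theorem bG_sq : ∀ i < 11, bG i * bG i = 1 := fun i hi => by
  have h := same_eq (allBelow_spec basis_sq i hi)
  rwa [prodW_append, prodW_nil] at h

theorem bG_comm : ∀ i < 11, ∀ j < 11, bG i * bG j = bG j * bG i := by
  have key : ∀ i < 11, ∀ j < i, bG i * bG j = bG j * bG i := fun i hi j hj => by
    have h := same_eq (allBelow_spec (allBelow_spec basis_comm i hi) j hj)
    rwa [prodW_append, prodW_append] at h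
  intro i hi j hj
  rcases Nat.lt_trichotomy i j with h | rfl | h
  · exact (key j hj i h).symm
  · rfl
  · exact key i hi j h

theorem aG_xor (v w : ℕ) : aG (v ^^^ w) = aG v * aG w := pUp_xor bG_comm bG_sq le_rfl v w

theorem aG_zero : aG 0 = 1 := pUp_zero bG 11

theorem aG_self (v : ℕ) : aG v * aG v = 1 := pUp_self bG_comm bG_sq v

theorem aG_inv (v : ℕ) : (aG v)⁻¹ = aG v := inv_eq_of_mul_eq_one_right (aG_self v)

theorem aG_comm (v w : ℕ) : aG v * aG w = aG w * aG v := pUp_comm bG_comm bG_sq v w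

theorem mat_bound {k j : ℕ} (hk : k < 7) (hj : j < 11) : mat k j < 2 ^ 11 := by
  have h := allBelow_spec (allBelow_spec mat_lt k hk) j hj
  rw [Nat.blt_eq] at h
  omega

theorem gG_conj {k : ℕ} (hk : k < 7) (v : ℕ) : gG k * aG v * (gG k)⁻¹ = aG (lin k v) := by
  refine pUp_conj bG_comm bG_sq (fun j hj => ?_) le_rfl v
  have h := same_eq (allBelow_spec (allBelow_spec gen_conj k hk) j hj)
  rw [prodW_append, prodW_append, prodW_aW] at h
  change gG k * bG j = aG (mat k j) * gG k at h
  rw [h, mul_inv_cancel_right]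
  rfl

theorem lin_lt {k : ℕ} (hk : k < 7) (v : ℕ) : lin k v < 2 ^ 11 :=
  sUp_lt (fun _ hj => mat_bound hk hj) v

theorem actUp_conj : ∀ {n : ℕ}, n ≤ 7 → ∀ e v,
    pUp gG n e * aG v * (pUp gG n e)⁻¹ = aG (actUp n e v)
  | 0, _, e, v => by simp [pUp, actUp]
  | n + 1, hn, e, v => by
    rw [pUp, actUp, ← actUp_conj (Nat.le_of_succ_le hn) e]
    cases e.testBit n
    · simp
    · simp only [cond_true, ← gG_conj hn]
      group

theorem rG_conj (e v : ℕ) : rG e * aG v * (rG e)⁻¹ = aG (act e v) := actUp_conj le_rfl e v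

theorem actUp_lt : ∀ {n : ℕ}, n ≤ 7 → ∀ e {v : ℕ}, v < 2 ^ 11 → actUp n e v < 2 ^ 11
  | 0, _, _, _, hv => by simpa [actUp] using hv
  | n + 1, hn, e, v, hv => by
    rw [actUp]
    refine actUp_lt (Nat.le_of_succ_le hn) e ?_
    cases e.testBit n
    · exact hv
    · exact lin_lt hn v

theorem act_lt (e : ℕ) {v : ℕ} (hv : v < 2048) : act e v < 2048 :=
  actUp_lt (n := 7) le_rfl e hv

theorem actUp_xor : ∀ n e v w, actUp n e (v ^^^ w) = actUp n e v ^^^ actUp n e w
  | 0, _, _, _ => by simp [actUp]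
  | n + 1, e, v, w => by
    simp only [actUp]
    cases e.testBit n
    · simpa using actUp_xor n e v w
    · simp only [cond_true, lin, sUp_xor]
      exact actUp_xor n e _ _

theorem disp_xor (e v w : ℕ) : disp e (v ^^^ w) = disp e v ^^^ disp e w := by
  unfold disp act
  rw [actUp_xor]
  ac_rfl

theorem levels_base_lt : ∀ l ∈ levels, l.base < certA.N := by
  have hb : (levels.all fun l => Nat.blt l.base certA.N) = true := by decide +kernel
  simpa only [List.all_eq_true, Nat.blt_eq] using hb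

theorem packBase_congr {u w : List ℕ} (hu : ∀ g ∈ u, g < certA.K) (hw : ∀ g ∈ w, g < certA.K)
    (h : prodW gen u = prodW gen w) : packBase u = packBase w := by
  have key : ∀ l ∈ levels, certA.run l.base (certA.revInv u) = certA.run l.base (certA.revInv w) := by
    intro l hl
    have h1 := setupA.rho_prodW hu ⟨l.base, levels_base_lt l hl⟩
    have h2 := setupA.rho_prodW hw ⟨l.base, levels_base_lt l hl⟩
    rw [h] at h1
    exact h1.symm.trans h2
  unfold packBase
  generalize levels = ls at key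
  induction ls with
  | nil => rfl
  | cons l ls ih =>
    simp only [List.foldr_cons]
    rw [key l (List.mem_cons_self ..), ih fun m hm => key m (List.mem_cons_of_mem _ hm)]

theorem aW_lt (v : ℕ) : ∀ g ∈ aW v, g < certA.K := by
  have hb : allBelow 11 (fun k => (bW k).all fun g => Nat.blt g 10) = true := by decide +kernel
  have key : ∀ n ≤ 11, ∀ g ∈ wUp bW n v, g < 10 := by
    intro n hn
    induction n with
    | zero => simp [wUp]
    | succ n ih =>
      intro g hg
      rw [wUp, List.mem_append] at hg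
      rcases hg with hg | hg
      · exact ih (Nat.le_of_succ_le hn) g hg
      · have h := allBelow_spec hb n hn
        simp only [List.all_eq_true, Nat.blt_eq] at h
        cases hv : v.testBit n <;> simp [hv] at hg
        exact h g hg
  intro g hg
  have hk : certA.K = 10 := rfl
  have := key 11 le_rfl g hg
  omega

theorem tab_index {i j : ℕ} (hi : i < 95) (hj : j < 95) (h : aG (tabIdx i) = aG (tabIdx j)) : i = j := by
  have e1 := allBelow_spec tab_ok i hi
  have e2 := allBelow_spec tab_ok j hj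
  rw [packBase_congr (aW_lt (tabIdx i)) (aW_lt (tabIdx j)) (by rw [prodW_aW, prodW_aW, h])] at e1
  replace e1 := Nat.eq_of_beq_eq_true e1
  replace e2 := Nat.eq_of_beq_eq_true e2
  rw [e1, nth_eq, nth_eq] at e2
  rw [List.getD_eq_getElem _ _ (by rw [tab_len]; exact hi),
    List.getD_eq_getElem _ _ (by rw [tab_len]; exact hj)] at e2
  exact (List.Nodup.getElem_inj_iff (noDup_nodup tab_nodup)).mp e2

theorem split_eq : allBelow 2048 (fun z => Nat.beq (z % 64 ^^^ z / 64 * 64) z) = true := by
  decide +kernel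

theorem aG_eq_one {z : ℕ} (hz : z < 2048) (h : aG z = 1) : z = 0 := by
  have e := Nat.eq_of_beq_eq_true (allBelow_spec split_eq z hz)
  rw [← e, aG_xor] at h
  have h' : aG (z % 64) = aG (z / 64 * 64) := by
    rw [← mul_right_inj (aG (z / 64 * 64)), aG_self, aG_comm, h]
  have hlo : z % 64 < 64 := Nat.mod_lt _ (by norm_num)
  have t1 : tabIdx (z % 64) = z % 64 := if_pos hlo
  by_cases hh : z / 64 = 0
  · have := tab_index (i := z % 64) (j := 0) (by omega) (by omega)
      (by rw [t1, h', hh]; rfl)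
    omega
  · have t2 : tabIdx (63 + z / 64) = z / 64 * 64 := by
      rw [tabIdx, if_neg (by omega)]
      congr 1
      omega
    have := tab_index (i := z % 64) (j := 63 + z / 64) (by omega) (by omega) (by rw [t1, t2, h'])
    omega

theorem aG_inj {v w : ℕ} (hv : v < 2048) (hw : w < 2048) (h : aG v = aG w) : v = w := by
  have h1 : aG (v ^^^ w) = 1 := by rw [aG_xor, h, aG_self]
  have h2 := aG_eq_one (Nat.xor_lt_two_pow (n := 11) hv hw) h1
  exact Nat.eq_of_testBit_eq fun i => by
    have := congrArg (fun x => x.testBit i) h2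
    simpa [Nat.testBit_xor] using this

theorem rG_zero : rG 0 = 1 := pUp_zero gG 7

theorem act_zero {v : ℕ} (hv : v < 2048) : act 0 v = v := by
  refine aG_inj (act_lt 0 hv) hv ?_
  rw [← rG_conj, rG_zero]
  group

theorem elt_conj (v e u : ℕ) : (aG v * rG e) * aG u * (aG v * rG e)⁻¹ = aG (act e u) := by
  rw [show (aG v * rG e) * aG u * (aG v * rG e)⁻¹ = aG v * (rG e * aG u * (rG e)⁻¹) * (aG v)⁻¹ by group,
    rG_conj, aG_comm, mul_inv_cancel_right]

theorem elt_inj {v e v' e' : ℕ} (hv : v < 2048) (he : e < 128) (hv' : v' < 2048) (he' : e' < 128)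
    (h : aG v * rG e = aG v' * rG e') : v = v' ∧ e = e' := by
  have key : ∀ u < 2048, act e u = act e' u := fun u hu =>
    aG_inj (act_lt e hu) (act_lt e' hu) (by rw [← elt_conj v, h, elt_conj])
  have hp : packAct e = packAct e' := by
    unfold packAct
    have hl : ∀ j ∈ List.range 11, act e (2 ^ j) = act e' (2 ^ j) := fun j hj =>
      key _ (show 2 ^ j < 2 ^ 11 from Nat.pow_lt_pow_right (by norm_num) (List.mem_range.mp hj))
    generalize List.range 11 = ls at hl
    induction ls with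
    | nil => rfl
    | cons j ls ih =>
      simp only [List.foldr_cons]
      rw [hl j (List.mem_cons_self ..), ih fun m hm => hl m (List.mem_cons_of_mem _ hm)]
  have e1 := Nat.eq_of_beq_eq_true (allBelow_spec act_tab e he)
  have e2 := Nat.eq_of_beq_eq_true (allBelow_spec act_tab e' he')
  rw [hp, e2, nth_eq, nth_eq, List.getD_eq_getElem _ _ (by rw [act_tab_len]; exact he'),
    List.getD_eq_getElem _ _ (by rw [act_tab_len]; exact he)] at e1
  obtain rfl := (List.Nodup.getElem_inj_iff (noDup_nodup act_tab_nodup)).mp e1.symm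
  exact ⟨aG_inj hv hv' (mul_right_cancel h), rfl⟩

/-- the elementary abelian subgroup of order 2^11 -/
noncomputable def baseSub : Subgroup Fi23 where
  carrier := {x | ∃ v < 2048, x = aG v}
  one_mem' := ⟨0, by norm_num, aG_zero.symm⟩
  mul_mem' := by
    rintro x y ⟨v, hv, rfl⟩ ⟨w, hw, rfl⟩
    exact ⟨v ^^^ w, Nat.xor_lt_two_pow (n := 11) hv hw, (aG_xor v w).symm⟩
  inv_mem' := by
    rintro x ⟨v, hv, rfl⟩
    exact ⟨v, hv, aG_inv v⟩

theorem mem_baseSub {x : Fi23} : x ∈ baseSub ↔ ∃ v < 2048, x = aG v := Iff.rfl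

theorem baseSub_card : Nat.card baseSub = 2048 := by
  let f : Fin 2048 → baseSub := fun v => ⟨aG v, v, v.2, rfl⟩
  have hf : Function.Bijective f := by
    refine ⟨fun v w h => Fin.ext (aG_inj v.2 w.2 (congrArg Subtype.val h)), ?_⟩
    rintro ⟨x, v, hv, rfl⟩
    exact ⟨⟨v, hv⟩, rfl⟩
  rw [← Nat.card_eq_of_bijective f hf, Nat.card_fin]

theorem exists_sylowSub :
    ∃ K : Subgroup Fi23, ∀ x, x ∈ K ↔ ∃ v < 2048, ∃ e < 128, x = aG v * rG e := by
  obtain ⟨K, hK⟩ := exists_tower (a := aG) (q := 2048) (g := gG) (n := 7) baseSub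
    (fun x => mem_baseSub)
    (fun k hk x hx => by
      obtain ⟨v, -, rfl⟩ := hx
      exact ⟨lin k v, lin_lt hk v, gG_conj hk v⟩)
    (fun k hk => by
      have h := allBelow_spec gen_square k hk
      simp only [Bool.and_eq_true, Nat.blt_eq] at h
      obtain ⟨⟨hv, he⟩, hs⟩ := h
      have hs' := same_eq hs
      rw [prodW_append, prodW_append, prodW_aW, prodW_rW] at hs'
      exact ⟨_, hv, _, he, hs'⟩)
    (fun k hk j hj => by
      have h := allBelow_spec (allBelow_spec gen_pair k hk) j hj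
      simp only [Bool.and_eq_true, Nat.blt_eq] at h
      obtain ⟨⟨hv, he⟩, hs⟩ := h
      have hs' := same_eq hs
      rw [prodW_append, prodW_append, prodW_append, prodW_aW, prodW_rW] at hs'
      refine ⟨_, hv, _, he, ?_⟩
      change gG k * gG j = _ * gG k at hs'
      rw [hs', mul_inv_cancel_right])
    7 le_rfl
  exact ⟨K, hK⟩

/-- a Sylow 2-subgroup containing the elementary abelian subgroup -/
noncomputable def sylowSub : Subgroup Fi23 := exists_sylowSub.choose

theorem mem_sylowSub {x : Fi23} : x ∈ sylowSub ↔ ∃ v < 2048, ∃ e < 128, x = aG v * rG e :=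
  exists_sylowSub.choose_spec x

theorem sylowSub_card : Nat.card sylowSub = 2 ^ 18 := by
  let f : Fin 2048 × Fin 128 → sylowSub := fun p =>
    ⟨aG p.1 * rG p.2, mem_sylowSub.mpr ⟨_, p.1.2, _, p.2.2, rfl⟩⟩
  have hf : Function.Bijective f := by
    refine ⟨fun p q h => ?_, ?_⟩
    · obtain ⟨h1, h2⟩ := elt_inj p.1.2 p.2.2 q.1.2 q.2.2 (congrArg Subtype.val h)
      exact Prod.ext (Fin.ext h1) (Fin.ext h2)
    · rintro ⟨x, hx⟩
      obtain ⟨v, hv, e, he, rfl⟩ := mem_sylowSub.mp hx
      exact ⟨(⟨v, hv⟩, ⟨e, he⟩), rfl⟩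
  rw [← Nat.card_eq_of_bijective f hf, Nat.card_prod, Nat.card_fin, Nat.card_fin]
  norm_num

/-- the sylow subgroup as a term of the type of Sylow 2-subgroups -/
noncomputable def sylowTwo : Sylow 2 Fi23 :=
  (IsPGroup.of_card (n := 18) sylowSub_card).toSylow (by
    have h := Subgroup.card_mul_index sylowSub
    rw [sylowSub_card, card_faithful.1] at h
    omega)

theorem baseSub_le : baseSub ≤ sylowSub := by
  rintro x ⟨v, hv, rfl⟩
  exact mem_sylowSub.mpr ⟨v, hv, 0, by norm_num, by rw [rG_zero, mul_one]⟩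

theorem baseSub_normal {k : Fi23} (hk : k ∈ sylowSub) {x : Fi23} (hx : x ∈ baseSub) :
    k * x * k⁻¹ ∈ baseSub := by
  obtain ⟨v, -, e, -, rfl⟩ := mem_sylowSub.mp hk
  obtain ⟨u, hu, rfl⟩ := hx
  exact ⟨act e u, act_lt e hu, elt_conj v e u⟩

section normal

variable {B : Subgroup Fi23} (hle : B ≤ sylowSub)
  (hn : ∀ k ∈ sylowSub, ∀ b ∈ B, k * b * k⁻¹ ∈ B)
  (hc : ∀ x ∈ B, ∀ y ∈ B, x * y = y * x) (hs : ∀ x ∈ B, x * x = 1)

include hle hn hc hs

omit hle in
theorem residue_cand {v e : ℕ} (he : e < 128) (he0 : e ≠ 0) (hx : aG v * rG e ∈ B) :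
    ∃ i < 27, nth cand i 128 = e := by
  have h := allBelow_spec kind_ok e he
  unfold kindOK at h
  split at h
  · next u _ _ _ =>
    simp only [Bool.and_eq_true, Nat.blt_eq, Bool.not_eq_true'] at h
    refine absurd ?_ (Nat.ne_of_beq_eq_false h.2)
    refine aG_inj (act_lt e (act_lt e h.1)) h.1 ?_
    rw [← elt_conj v e (act e u), ← elt_conj v e u]
    generalize aG v * rG e = x at hx
    rw [show x * (x * aG u * x⁻¹) * x⁻¹ = (x * x) * aG u * (x * x)⁻¹ by group, hs x hx]
    group
  · next f w k _ =>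
    simp only [Bool.and_eq_true, Nat.blt_eq, Bool.not_eq_true'] at h
    obtain ⟨⟨⟨⟨hf, hw⟩, hk⟩, hk'⟩, hne⟩ := h
    refine absurd ?_ (Nat.ne_of_beq_eq_false hne)
    have hy : rG f ∈ sylowSub :=
      mem_sylowSub.mpr ⟨0, by norm_num, f, hf, by rw [aG_zero, one_mul]⟩
    have hcomm := hc _ hx _ (hn _ hy _ hx)
    refine aG_inj (act_lt e (act_lt f (act_lt e hw))) (act_lt f (act_lt e hk)) ?_
    rw [← elt_conj v e (act f (act e w)), ← rG_conj f (act e w), ← elt_conj v e w,
      ← rG_conj f (act e k), ← elt_conj v e k]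
    have hk2 : rG f * aG k * (rG f)⁻¹ =
        (aG v * rG e) * (rG f * aG w * (rG f)⁻¹) * (aG v * rG e)⁻¹ := by
      rw [rG_conj, rG_conj, elt_conj, Nat.eq_of_beq_eq_true hk']
    generalize aG v * rG e = x at hx hcomm hk2
    generalize rG f = y at hy hcomm hk2
    rw [show aG k = y⁻¹ * (y * aG k * y⁻¹) * y by group, hk2,
      show x * (y * (x * aG w * x⁻¹) * y⁻¹) * x⁻¹ =
        (x * (y * x * y⁻¹)) * (y * aG w * y⁻¹) * (x * (y * x * y⁻¹))⁻¹ by group,
      show y * (x * (y⁻¹ * (x * (y * aG w * y⁻¹) * x⁻¹) * y) * x⁻¹) * y⁻¹ =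
        ((y * x * y⁻¹) * x) * (y * aG w * y⁻¹) * ((y * x * y⁻¹) * x)⁻¹ by group, hcomm]
  · next i _ _ _ =>
    simp only [Bool.and_eq_true, Nat.blt_eq] at h
    exact ⟨i, h.1, Nat.eq_of_beq_eq_true h.2⟩
  · exact absurd (Nat.eq_of_beq_eq_true h) he0
  · simp at h

omit hle hn hs in
theorem residue_fix {v e u : ℕ} (hx : aG v * rG e ∈ B) (hu : aG u ∈ B) (hu' : u < 2048) :
    act e u = u := by
  refine aG_inj (act_lt e hu') hu' ?_
  rw [← elt_conj v, hc _ hx _ hu, mul_inv_cancel_right]

theorem card_le_and_eq : Nat.card B ≤ 2048 ∧ (Nat.card B = 2048 → B = baseSub) := by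
  classical
  obtain ⟨S, hS⟩ : ∃ S : Finset (ℕ × ℕ),
      ∀ p : ℕ × ℕ, p ∈ S ↔ (p.1 < 2048 ∧ p.2 < 128) ∧ aG p.1 * rG p.2 ∈ B :=
    ⟨(Finset.range 2048 ×ˢ Finset.range 128).filter fun p => aG p.1 * rG p.2 ∈ B, fun p => by
      rw [Finset.mem_filter, Finset.mem_product, Finset.mem_range, Finset.mem_range]⟩
  have hcard : Nat.card B = S.card := by
    let f : S → B := fun p => ⟨aG p.1.1 * rG p.1.2, ((hS p.1).mp p.2).2⟩
    have hf : Function.Bijective f := by
      refine ⟨fun p q h => ?_, ?_⟩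
      · obtain ⟨⟨p1, p2⟩, -⟩ := (hS p.1).mp p.2
        obtain ⟨⟨q1, q2⟩, -⟩ := (hS q.1).mp q.2
        obtain ⟨h1, h2⟩ := elt_inj p1 p2 q1 q2 (congrArg Subtype.val h)
        exact Subtype.ext (Prod.ext h1 h2)
      · rintro ⟨x, hx⟩
        obtain ⟨v, hv, e, he, rfl⟩ := mem_sylowSub.mp (hle hx)
        exact ⟨⟨(v, e), (hS _).mpr ⟨⟨hv, he⟩, hx⟩⟩, rfl⟩
    rw [← Nat.card_eq_of_bijective f hf, Nat.card_eq_fintype_card, Fintype.card_coe]
  let E := S.image Prod.snd
  obtain ⟨V, hVmem⟩ : ∃ V : Finset ℕ, ∀ u, u ∈ V ↔ u < 2048 ∧ aG u ∈ B :=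
    ⟨(Finset.range 2048).filter fun u => aG u ∈ B, fun u => by rw [Finset.mem_filter, Finset.mem_range]⟩
  have hfib : ∀ e ∈ E, (S.filter fun p => p.2 = e).card ≤ V.card := by
    intro e he
    obtain ⟨p₀, hp₀, rfl⟩ := Finset.mem_image.mp he
    obtain ⟨⟨h01, -⟩, h0⟩ := (hS p₀).mp hp₀
    refine Finset.card_le_card_of_injOn (fun p => p.1 ^^^ p₀.1) (fun p hp => ?_) ?_
    · obtain ⟨hp, hp2⟩ := Finset.mem_filter.mp hp
      obtain ⟨⟨h1, -⟩, h⟩ := (hS p).mp hp
      refine (hVmem _).mpr ⟨Nat.xor_lt_two_pow (n := 11) h1 h01, ?_⟩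
      rw [hp2] at h
      rw [aG_xor, ← mul_one (aG p.1), ← mul_inv_cancel (rG p₀.2), ← mul_assoc, mul_assoc _ _ (aG p₀.1)]
      have : (rG p₀.2)⁻¹ * aG p₀.1 = (aG p₀.1 * rG p₀.2)⁻¹ := by rw [mul_inv_rev, aG_inv]
      rw [this]
      exact B.mul_mem h (B.inv_mem h0)
    · intro p hp q hq h
      refine Prod.ext ?_ ((Finset.mem_filter.mp hp).2.trans (Finset.mem_filter.mp hq).2.symm)
      exact Nat.eq_of_testBit_eq fun i => by
        have := congrArg (fun x => x.testBit i) h
        simpa [Nat.testBit_xor] using this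
  have hSle : S.card ≤ V.card * E.card := Finset.card_le_mul_card_image S V.card hfib
  have hVdvd : V.card ∣ 2 ^ 11 := by
    have h := Subgroup.card_dvd_of_le (inf_le_right : B ⊓ baseSub ≤ baseSub)
    let f : V → (B ⊓ baseSub : Subgroup Fi23) := fun u =>
      ⟨aG u.1, ((hVmem u.1).mp u.2).2, u.1, ((hVmem u.1).mp u.2).1, rfl⟩
    have hf : Function.Bijective f := by
      refine ⟨fun u w h => Subtype.ext (aG_inj ((hVmem u.1).mp u.2).1 ((hVmem w.1).mp w.2).1
        (congrArg Subtype.val h)), ?_⟩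
      rintro ⟨x, hx, v, hv, rfl⟩
      exact ⟨⟨v, (hVmem v).mpr ⟨hv, hx⟩⟩, rfl⟩
    rw [← Nat.card_eq_of_bijective f hf, Nat.card_eq_fintype_card, Fintype.card_coe, baseSub_card] at h
    exact h
  have hEc : ∀ e ∈ E, e = 0 ∨ ∃ i < 27, nth cand i 128 = e := by
    intro e he
    obtain ⟨p, hp, rfl⟩ := Finset.mem_image.mp he
    obtain ⟨⟨-, h2⟩, h⟩ := (hS p).mp hp
    by_cases h0 : p.2 = 0
    · exact Or.inl h0
    · exact Or.inr (residue_cand hn hc hs h2 h0 h)
  have hE28 : E.card ≤ 28 := by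
    have hsub : E ⊆ insert 0 ((Finset.range 27).image fun i => nth cand i 128) := by
      intro e he
      rcases hEc e he with rfl | ⟨i, hi, rfl⟩
      · exact Finset.mem_insert_self ..
      · exact Finset.mem_insert_of_mem (Finset.mem_image.mpr ⟨i, Finset.mem_range.mpr hi, rfl⟩)
    refine (Finset.card_le_card hsub).trans ((Finset.card_insert_le ..).trans ?_)
    exact Nat.succ_le_succ (Finset.card_image_le.trans (by simp))
  have hfix : ∀ e ∈ E, ∀ u ∈ V, act e u = u := by
    intro e he u hu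
    obtain ⟨p, hp, rfl⟩ := Finset.mem_image.mp he
    exact residue_fix hc ((hS p).mp hp).2 ((hVmem u).mp hu).2 ((hVmem u).mp hu).1
  by_cases hE : ∀ e ∈ E, e = 0
  · have hBA : B ≤ baseSub := by
      intro x hx
      obtain ⟨v, hv, e, he, rfl⟩ := mem_sylowSub.mp (hle hx)
      obtain rfl := hE e (Finset.mem_image.mpr ⟨(v, e), (hS _).mpr ⟨⟨hv, he⟩, hx⟩, rfl⟩)
      exact ⟨v, hv, by rw [rG_zero, mul_one]⟩
    have h := Subgroup.card_le_of_le hBA
    rw [baseSub_card] at h
    exact ⟨h, fun hB => Subgroup.eq_of_le_of_card_ge hBA (by rw [baseSub_card, hB])⟩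
  · have hsmall : Nat.card B < 2048 := by
      rw [hcard]
      push Not at hE
      obtain ⟨e, he, he0⟩ := hE
      obtain ⟨i, hi, rfl⟩ := (hEc e he).resolve_left he0
      obtain ⟨F, hFmem⟩ : ∃ F : Finset ℕ, ∀ u, u ∈ F ↔ u < 2048 ∧ act (nth cand i 128) u = u :=
        ⟨(Finset.range 2048).filter fun u => act (nth cand i 128) u = u, fun u => by
          rw [Finset.mem_filter, Finset.mem_range]⟩
      have hVF : V ⊆ F := fun u hu => (hFmem u).mpr ⟨((hVmem u).mp hu).1, hfix _ he u hu⟩
      have hF : F.card ≤ 128 := by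
        have hu4 : ∀ k < 4, nth (nthWord fourVecs i) k 0 < 2 ^ 11 := fun k hk => by
          have h := allBelow_spec (allBelow_spec four_lt i hi) k hk
          simpa using h
        have hinj : (F ×ˢ Finset.range 16).card ≤ (Finset.range 2048).card := by
          refine Finset.card_le_card_of_injOn (fun p => p.1 ^^^ comb (nthWord fourVecs i) p.2)
            (fun p hp => ?_) ?_
          · rw [Finset.mem_coe, Finset.mem_product, hFmem, Finset.mem_range] at hp
            exact Finset.mem_coe.mpr (Finset.mem_range.mpr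
              (Nat.xor_lt_two_pow (n := 11) hp.1.1 (sUp_lt hu4 p.2)))
          · intro p hp q hq h
            rw [Finset.mem_coe, Finset.mem_product, hFmem, Finset.mem_range] at hp hq
            have hd := congrArg (disp (nth cand i 128)) h
            simp only [disp_xor] at hd
            rw [show disp (nth cand i 128) p.1 = 0 by simp [disp, hp.1.2],
              show disp (nth cand i 128) q.1 = 0 by simp [disp, hq.1.2], Nat.zero_xor, Nat.zero_xor] at hd
            have hc' : p.2 = q.2 := by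
              have h4 := allBelow_spec four_ok i hi
              rcases Nat.lt_trichotomy p.2 q.2 with hl | hl | hl
              · have := allBelow_spec (allBelow_spec h4 q.2 hq.2) p.2 hl
                rw [hd] at this
                simp at this
              · exact hl
              · have := allBelow_spec (allBelow_spec h4 p.2 hp.2) q.2 hl
                rw [hd] at this
                simp at this
            refine Prod.ext ?_ hc'
            simp only [hc'] at h
            exact Nat.eq_of_testBit_eq fun j => by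
              have := congrArg (fun x => x.testBit j) h
              simpa [Nat.testBit_xor] using this
        rw [Finset.card_product, Finset.card_range, Finset.card_range] at hinj
        omega
      by_cases hE2 : ∀ f ∈ E, f = 0 ∨ f = nth cand i 128
      · have h2 : E.card ≤ 2 := by
          refine (Finset.card_le_card (fun f hf => ?_)).trans (Finset.card_le_two (a := 0) (b := nth cand i 128))
          simpa using hE2 f hf
        calc S.card ≤ V.card * E.card := hSle
          _ ≤ 128 * 2 := Nat.mul_le_mul ((Finset.card_le_card hVF).trans hF) h2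
          _ < 2048 := by norm_num
      · push Not at hE2
        obtain ⟨f, hf, hf0, hfe⟩ := hE2
        obtain ⟨j, hj, rfl⟩ := (hEc f hf).resolve_left hf0
        have hsep := allBelow_spec (allBelow_spec sep_ok i hi) j hj
        simp only [sepOK, Bool.or_eq_true, Bool.and_eq_true, Nat.blt_eq, Bool.not_eq_true'] at hsep
        rcases hsep with h | ⟨⟨hu, hfu⟩, hmu⟩
        · exact absurd (congrArg (fun k => nth cand k 128) (Nat.eq_of_beq_eq_true h)).symm hfe
        have hlt : V.card < F.card := by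
          refine Finset.card_lt_card ((Finset.ssubset_iff_of_subset hVF).mpr
            ⟨nth (nthWord sepVec i) j 0, ?_, fun hV => ?_⟩)
          · exact (hFmem _).mpr ⟨hu, Nat.eq_of_beq_eq_true hfu⟩
          · exact Nat.ne_of_beq_eq_false hmu (hfix _ hf _ hV)
        obtain ⟨k, -, hk⟩ := (Nat.dvd_prime_pow Nat.prime_two).mp hVdvd
        have hk6 : k ≤ 6 := by
          by_contra hk'
          have : 2 ^ 7 ≤ 2 ^ k := Nat.pow_le_pow_right (by norm_num) (by omega)
          omega
        calc S.card ≤ V.card * E.card := hSle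
          _ ≤ 64 * 28 := Nat.mul_le_mul (hk ▸ Nat.pow_le_pow_right (by norm_num) hk6) hE28
          _ < 2048 := by norm_num
    exact ⟨hsmall.le, fun h => absurd h hsmall.ne⟩

end normal

theorem conclusion (T : Sylow 2 Fi23) :
    (∀ A : Subgroup Fi23, A ≤ T → (A.subgroupOf T).Normal → Cfsg.IsElementaryAbelian 2 A →
        Nat.card A ≤ 2 ^ 11) ∧
    ∃! A : Subgroup Fi23, A ≤ T ∧ (A.subgroupOf T).Normal ∧ Cfsg.IsElementaryAbelian 2 A ∧
        Nat.card A = 2 ^ 11 := by
  obtain ⟨g, hg⟩ := MulAction.exists_smul_eq Fi23 sylowTwo T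
  have hT : (T : Subgroup Fi23) = sylowSub.map (MulAut.conj g).toMonoidHom := by
    rw [← hg]
    rfl
  set c := (MulAut.conj g).toMonoidHom with hcdef
  have hcs : Function.Surjective c := (MulAut.conj g).surjective
  have hci : Function.Injective c := (MulAut.conj g).injective
  have hcard : ∀ H : Subgroup Fi23, Nat.card (H.map c) = Nat.card H := fun H =>
    (Nat.card_congr (H.equivMapOfInjective c hci).toEquiv).symm
  have key : ∀ A : Subgroup Fi23, A ≤ T → (A.subgroupOf T).Normal → Cfsg.IsElementaryAbelian 2 A →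
      Nat.card A ≤ 2 ^ 11 ∧ (Nat.card A = 2 ^ 11 → A = baseSub.map c) := by
    intro A hle hn hea
    have hA : (A.comap c).map c = A := Subgroup.map_comap_eq_self_of_surjective hcs A
    have hB : A.comap c ≤ sylowSub := by
      intro x hx
      have := hle (Subgroup.mem_comap.mp hx)
      rw [hT] at this
      exact (Subgroup.mem_map_iff_mem hci).mp this
    have hnB : ∀ k ∈ sylowSub, ∀ b ∈ A.comap c, k * b * k⁻¹ ∈ A.comap c := by
      intro k hk b hb
      have hck : c k ∈ (T : Subgroup Fi23) := by rw [hT]; exact Subgroup.mem_map_of_mem c hk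
      have := hn.conj_mem ⟨c b, hle hb⟩ hb ⟨c k, hck⟩
      rw [Subgroup.mem_comap, map_mul, map_mul, map_inv]
      exact this
    have h := card_le_and_eq hB hnB
      (fun x hx y hy => hci (by
        rw [map_mul, map_mul]
        exact congrArg Subtype.val (hea.1.is_comm.comm (⟨c x, hx⟩ : A) ⟨c y, hy⟩)))
      (fun x hx => hci (by rw [map_mul, map_one, ← pow_two]; exact hea.2 _ hx))
    rw [← hcard (A.comap c), hA] at h
    exact ⟨h.1, fun e => by rw [← hA, h.2 e]⟩
  refine ⟨fun A h1 h2 h3 => (key A h1 h2 h3).1, baseSub.map c, ⟨?_, ?_, ⟨?_, ?_⟩, ?_⟩,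
    fun A ⟨h1, h2, h3, h4⟩ => (key A h1 h2 h3).2 h4⟩
  · rw [hT]
    exact Subgroup.map_mono baseSub_le
  · refine ⟨fun x hx k => ?_⟩
    obtain ⟨a, ha, e1⟩ := Subgroup.mem_map.mp (Subgroup.mem_subgroupOf.mp hx)
    have hk : (k : Fi23) ∈ sylowSub.map c := hT ▸ k.2
    obtain ⟨b, hb, e2⟩ := Subgroup.mem_map.mp hk
    rw [Subgroup.mem_subgroupOf]
    simp only [Subgroup.coe_mul, Subgroup.coe_inv]
    rw [← e1, ← e2, ← map_inv, ← map_mul, ← map_mul]
    exact Subgroup.mem_map_of_mem c (baseSub_normal hb ha)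
  · refine ⟨⟨?_⟩⟩
    rintro ⟨x, hx⟩ ⟨y, hy⟩
    obtain ⟨a, ⟨u, -, rfl⟩, rfl⟩ := Subgroup.mem_map.mp hx
    obtain ⟨b, ⟨w, -, rfl⟩, rfl⟩ := Subgroup.mem_map.mp hy
    exact Subtype.ext (by
      change c (aG u) * c (aG w) = c (aG w) * c (aG u)
      rw [← map_mul, ← map_mul, aG_comm])
  · intro x hx
    obtain ⟨a, ⟨u, -, rfl⟩, rfl⟩ := Subgroup.mem_map.mp hx
    rw [pow_two, ← map_mul, aG_self, map_one]
  · rw [hcard, baseSub_card]
    norm_num

end CfsgLib.Fi23Syl
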