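import Mathlib

/-!
Bit-indexed products and sums, and 2-groups built one generator at a time over an elementary abelian subgroup.
-/

set_option autoImplicit false

namespace CfsgLib.Fi23Syl

variable {G : Type*} [Group G]

/-- the product of the `b k`, `k < n`, at the set bits of `v` -/
def pUp (b : ℕ → G) : ℕ → ℕ → G
  | 0, _ => 1
  | n + 1, v => pUp b n v * bif v.testBit n then b n else 1

/-- the bitwise sum of the `r k`, `k < n`, at the set bits of `v` -/
def sUp (r : ℕ → ℕ) : ℕ → ℕ → ℕ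
  | 0, _ => 0
  | n + 1, v => sUp r n v ^^^ bif v.testBit n then r n else 0

theorem pUp_congr (b : ℕ → G) : ∀ {n v w : ℕ}, (∀ k < n, v.testBit k = w.testBit k) →
    pUp b n v = pUp b n w
  | 0, _, _, _ => rfl
  | n + 1, v, w, h => by
    rw [pUp, pUp, pUp_congr b fun k hk => h k (by omega), h n (by omega)]

theorem pUp_zero (b : ℕ → G) : ∀ n, pUp b n 0 = 1
  | 0 => rfl
  | n + 1 => by simp [pUp, pUp_zero b n]

theorem pUp_mem {b : ℕ → G} {K : Subgroup G} : ∀ {n : ℕ}, (∀ k < n, b k ∈ K) → ∀ v, pUp b n v ∈ K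
  | 0, _, _ => K.one_mem
  | n + 1, h, v => by
    refine K.mul_mem (pUp_mem (fun k hk => h k (by omega)) v) ?_
    cases v.testBit n
    · exact K.one_mem
    · exact h n (by omega)

theorem pUp_two_pow (b : ℕ → G) : ∀ {n j : ℕ}, j < n → pUp b n (2 ^ j) = b j
  | n + 1, j, h => by
    rw [pUp]
    rcases Nat.lt_or_eq_of_le (Nat.lt_succ_iff.mp h) with h' | rfl
    · rw [pUp_two_pow b h', Nat.testBit_two_pow_of_ne (Nat.ne_of_lt h')]
      simp
    · have : pUp b j (2 ^ j) = 1 :=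
        (pUp_congr b fun k hk => by
          simp [Nat.testBit_two_pow_of_ne (Nat.ne_of_gt hk)]).trans (pUp_zero b j)
      rw [this, Nat.testBit_two_pow_self]
      simp

theorem sUp_xor (r : ℕ → ℕ) : ∀ n v w, sUp r n (v ^^^ w) = sUp r n v ^^^ sUp r n w
  | 0, _, _ => by simp [sUp]
  | n + 1, v, w => by
    have e : (bif (v ^^^ w).testBit n then r n else 0) =
        (bif v.testBit n then r n else 0) ^^^ (bif w.testBit n then r n else 0) := by
      rw [Nat.testBit_xor]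
      cases v.testBit n <;> cases w.testBit n <;> simp
    simp only [sUp, e, sUp_xor r n v w]
    ac_rfl

theorem sUp_lt {r : ℕ → ℕ} {m : ℕ} : ∀ {n : ℕ}, (∀ k < n, r k < 2 ^ m) → ∀ v, sUp r n v < 2 ^ m
  | 0, _, _ => by simp [sUp]
  | n + 1, h, v => by
    rw [sUp]
    refine Nat.xor_lt_two_pow (sUp_lt (fun k hk => h k (by omega)) v) ?_
    cases v.testBit n
    · simp
    · exact h n (by omega)

section abelian

variable {b : ℕ → G} {n : ℕ}

theorem pUp_xor (hc : ∀ i < n, ∀ j < n, b i * b j = b j * b i) (hs : ∀ i < n, b i * b i = 1) :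
    ∀ {m : ℕ}, m ≤ n → ∀ v w, pUp b m (v ^^^ w) = pUp b m v * pUp b m w
  | 0, _, _, _ => by simp [pUp]
  | m + 1, hm, v, w => by
    have hb : b m * b m = 1 := hs m hm
    have hcm : ∀ u, Commute (pUp b m u) (b m) := fun u => by
      have : pUp b m u ∈ Subgroup.centralizer {b m} :=
        pUp_mem (fun k hk => Subgroup.mem_centralizer_iff.mpr fun y hy => by
          rw [Set.mem_singleton_iff.mp hy]; exact hc m hm k (by omega)) u
      exact (Subgroup.mem_centralizer_iff.mp this (b m) rfl).symm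
    simp only [pUp, pUp_xor hc hs (Nat.le_of_succ_le hm) v w, Nat.testBit_xor]
    cases v.testBit m <;> cases w.testBit m <;> simp [mul_assoc]
    · exact (hcm w).eq
    · rw [← mul_assoc (b m), ← (hcm w).eq, mul_assoc, hb, mul_one]

theorem pUp_comm (hc : ∀ i < n, ∀ j < n, b i * b j = b j * b i) (hs : ∀ i < n, b i * b i = 1)
    (v w : ℕ) : pUp b n v * pUp b n w = pUp b n w * pUp b n v := by
  rw [← pUp_xor hc hs le_rfl, ← pUp_xor hc hs le_rfl, Nat.xor_comm]

theorem pUp_self (hc : ∀ i < n, ∀ j < n, b i * b j = b j * b i) (hs : ∀ i < n, b i * b i = 1)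
    (v : ℕ) : pUp b n v * pUp b n v = 1 := by
  rw [← pUp_xor hc hs le_rfl, Nat.xor_self, pUp_zero]

theorem pUp_conj (hc : ∀ i < n, ∀ j < n, b i * b j = b j * b i) (hs : ∀ i < n, b i * b i = 1)
    {g : G} {r : ℕ → ℕ} (hr : ∀ j < n, g * b j * g⁻¹ = pUp b n (r j)) :
    ∀ {m : ℕ}, m ≤ n → ∀ v, g * pUp b m v * g⁻¹ = pUp b n (sUp r m v)
  | 0, _, _ => by simp [pUp, sUp, pUp_zero]
  | m + 1, hm, v => by
    rw [sUp, pUp_xor hc hs le_rfl, ← pUp_conj hc hs hr (Nat.le_of_succ_le hm) v, pUp]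
    cases v.testBit m
    · simp [pUp_zero]
    · simp only [cond_true, ← hr m hm]
      group

end abelian

/-- a subgroup with an element normalising it whose square lies in it -/
def oneStep (K : Subgroup G) (g : G) (hn : ∀ h ∈ K, g * h * g⁻¹ ∈ K) (hg : g * g ∈ K) : Subgroup G where
  carrier := {x | x ∈ K ∨ ∃ h ∈ K, x = h * g}
  one_mem' := Or.inl K.one_mem
  mul_mem' := by
    rintro x y (hx | ⟨h, hh, rfl⟩) (hy | ⟨k, hk, rfl⟩)
    · exact Or.inl (K.mul_mem hx hy)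
    · exact Or.inr ⟨x * k, K.mul_mem hx hk, by group⟩
    · exact Or.inr ⟨h * (g * y * g⁻¹), K.mul_mem hh (hn y hy), by group⟩
    · refine Or.inl ?_
      rw [show h * g * (k * g) = h * (g * k * g⁻¹) * (g * g) by group]
      exact K.mul_mem (K.mul_mem hh (hn k hk)) hg
  inv_mem' := by
    rintro x (hx | ⟨h, hh, rfl⟩)
    · exact Or.inl (K.inv_mem hx)
    · exact Or.inr ⟨(g * g)⁻¹ * (g * h⁻¹ * g⁻¹), K.mul_mem (K.inv_mem hg) (hn _ (K.inv_mem hh)),
        by group⟩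

theorem exists_tower {a : ℕ → G} {q : ℕ} (A : Subgroup G) (hA : ∀ x, x ∈ A ↔ ∃ v < q, x = a v)
    {g : ℕ → G} {n : ℕ} (hgA : ∀ k < n, ∀ x ∈ A, g k * x * (g k)⁻¹ ∈ A)
    (hsq : ∀ k < n, ∃ v < q, ∃ e < 2 ^ k, g k * g k = a v * pUp g k e)
    (hcj : ∀ k < n, ∀ j < k, ∃ v < q, ∃ e < 2 ^ k, g k * g j * (g k)⁻¹ = a v * pUp g k e) :
    ∀ m ≤ n, ∃ K : Subgroup G, ∀ x, x ∈ K ↔ ∃ v < q, ∃ e < 2 ^ m, x = a v * pUp g m e := by
  intro m hm
  induction m with
  | zero =>
    refine ⟨A, fun x => (hA x).trans ⟨fun ⟨v, hv, e⟩ => ⟨v, hv, 0, by simp, by simp [pUp, e]⟩,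
      fun ⟨v, hv, e, _, h⟩ => ⟨v, hv, by simpa [pUp] using h⟩⟩⟩
  | succ m ih =>
    obtain ⟨K, hK⟩ := ih (Nat.le_of_succ_le hm)
    have hAK : ∀ v < q, a v ∈ K := fun v hv =>
      (hK _).mpr ⟨v, hv, 0, by positivity, by simp [pUp_zero]⟩
    obtain ⟨v₀, hv₀, h1⟩ := (hA 1).mp A.one_mem
    have hgK : ∀ j < m, g j ∈ K := fun j hj =>
      (hK _).mpr ⟨v₀, hv₀, 2 ^ j, Nat.pow_lt_pow_right (by norm_num) hj, by
        rw [pUp_two_pow g hj, ← h1, one_mul]⟩
    have hn : ∀ h ∈ K, g m * h * (g m)⁻¹ ∈ K := by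
      intro h hh
      obtain ⟨v, hv, e, -, rfl⟩ := (hK h).mp hh
      have h2 : g m * a v * (g m)⁻¹ ∈ A := hgA m hm _ ((hA _).mpr ⟨v, hv, rfl⟩)
      obtain ⟨v', hv', e'⟩ := (hA _).mp h2
      have h3 : pUp g m e ∈ K.comap (MulAut.conj (g m)).toMonoidHom :=
        pUp_mem (fun j hj => by
          change g m * g j * (g m)⁻¹ ∈ K
          exact (hK _).mpr (hcj m hm j hj)) e
      rw [show g m * (a v * pUp g m e) * (g m)⁻¹ =
        (g m * a v * (g m)⁻¹) * (g m * pUp g m e * (g m)⁻¹) by group, e']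
      exact K.mul_mem (hAK v' hv') h3
    have hg : g m * g m ∈ K := (hK _).mpr (hsq m hm)
    refine ⟨oneStep K (g m) hn hg, fun x => ⟨?_, ?_⟩⟩
    · rintro (hx | ⟨h, hh, rfl⟩)
      · obtain ⟨v, hv, e, he, rfl⟩ := (hK x).mp hx
        exact ⟨v, hv, e, he.trans (by rw [pow_succ]; omega), by
          simp [pUp, Nat.testBit_lt_two_pow he]⟩
      · obtain ⟨v, hv, e, he, rfl⟩ := (hK h).mp hh
        refine ⟨v, hv, e + 2 ^ m, by rw [pow_succ]; omega, ?_⟩
        have hb : (e + 2 ^ m).testBit m = true := by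
          rw [add_comm, Nat.testBit_two_pow_add_eq, Nat.testBit_lt_two_pow he]; rfl
        have hl : pUp g m (e + 2 ^ m) = pUp g m e := pUp_congr g fun k hk => by
          rw [add_comm, Nat.testBit_two_pow_add_gt hk]
        simp [pUp, hb, hl, mul_assoc]
    · rintro ⟨v, hv, e, -, rfl⟩
      have hmod : pUp g m e = pUp g m (e % 2 ^ m) := pUp_congr g fun k hk => by
        rw [Nat.testBit_mod_two_pow]; simp [hk]
      have hin : a v * pUp g m e ∈ K :=
        (hK _).mpr ⟨v, hv, e % 2 ^ m, Nat.mod_lt _ (by positivity), by rw [hmod]⟩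
      rw [pUp]
      cases e.testBit m
      · exact Or.inl (by simpa using hin)
      · exact Or.inr ⟨_, hin, by simp [mul_assoc]⟩

end CfsgLib.Fi23Syl
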