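import Cfsg.Agent.Lib.Fi23Syl.Basic
import Cfsg.Agent.Lib.Fi23Syl.Data
import Cfsg.Agent.Lib.CosetEnum.Basic

/-!
The checked functions for a Sylow 2-subgroup of the presented group Fi23.
-/

set_option autoImplicit false

namespace CfsgLib.Fi23Syl

open CfsgLib.CosetEnum

/-- concatenation of the words `W k`, `k < n`, at the set bits of `v` -/
def wUp (W : ℕ → List ℕ) : ℕ → ℕ → List ℕ
  | 0, _ => []
  | n + 1, v => wUp W n v ++ bif v.testBit n then W n else []

/-- word of a basis element -/
noncomputable def bW (k : ℕ) : List ℕ := nthWord bWords k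

/-- word of a further generator -/
noncomputable def gW (k : ℕ) : List ℕ := nthWord gWords k

/-- word of an element of the elementary abelian subgroup -/
noncomputable def aW (v : ℕ) : List ℕ := wUp bW 11 v

/-- word of a residue -/
noncomputable def rW (n e : ℕ) : List ℕ := wUp gW n e

/-- image of a basis vector -/
noncomputable def mat (k j : ℕ) : ℕ := nth (nthWord matRows k) j 0

/-- the linear map of a further generator -/
noncomputable def lin (k v : ℕ) : ℕ := sUp (mat k) 11 v

/-- the linear map of a residue -/
noncomputable def actUp : ℕ → ℕ → ℕ → ℕ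
  | 0, _, v => v
  | n + 1, e, v => actUp n e (bif e.testBit n then lin n v else v)

/-- the linear map of a residue -/
noncomputable def act (e v : ℕ) : ℕ := actUp 7 e v

/-- packed images of the basis -/
noncomputable def packAct (e : ℕ) : ℕ :=
  (List.range 11).foldr (fun j acc => act e (2 ^ j) + 2048 * acc) 0

/-- a residue is trivial, a listed candidate, or witnessed not to be a candidate -/
noncomputable def kindOK (e : ℕ) : Bool :=
  match kinds.getD e (4, 0, 0, 0) with
  | (0, u, _, _) => Nat.blt u 2048 && !(Nat.beq (act e (act e u)) u)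
  | (1, f, w, k) => Nat.blt f 128 && Nat.blt w 2048 && Nat.blt k 2048 &&
      Nat.beq (act f k) (act e (act f w)) && !(Nat.beq (act e (act f (act e w))) (act f (act e k)))
  | (2, i, _, _) => Nat.blt i 27 && Nat.beq (nth cand i 128) e
  | (3, _, _, _) => Nat.beq e 0
  | _ => false

/-- displacement -/
noncomputable def disp (e v : ℕ) : ℕ := act e v ^^^ v

/-- combination of four vectors -/
noncomputable def comb (us : List ℕ) (c : ℕ) : ℕ := sUp (fun i => nth us i 0) 4 c

/-- all numbers below a bound satisfy a test -/
noncomputable def allBelow (n : ℕ) (f : ℕ → Bool) : Bool := (List.range n).all f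

theorem allBelow_spec {n : ℕ} {f : ℕ → Bool} (h : allBelow n f = true) : ∀ i < n, f i = true :=
  fun i hi => List.all_eq_true.mp h i (List.mem_range.mpr hi)

/-- a list without repetitions -/
noncomputable def noDup : List ℕ → Bool
  | [] => true
  | x :: l => (l.all fun y => !(Nat.beq x y)) && noDup l

theorem noDup_nodup : ∀ {l : List ℕ}, noDup l = true → l.Nodup
  | [], _ => List.nodup_nil
  | x :: l, h => by
    simp only [noDup, Bool.and_eq_true, List.all_eq_true, Bool.not_eq_true'] at h
    refine List.nodup_cons.mpr ⟨fun hx => ?_, noDup_nodup h.2⟩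
    simpa using h.1 x hx

/-- the displacements of the combinations of four vectors differ -/
noncomputable def fourOK (i : ℕ) : Bool :=
  allBelow 16 fun c => allBelow c fun d =>
    !(Nat.beq (disp (nth cand i 128) (comb (nthWord fourVecs i) c))
      (disp (nth cand i 128) (comb (nthWord fourVecs i) d)))

/-- two candidates have different fixed spaces -/
noncomputable def sepOK (i j : ℕ) : Bool :=
  Nat.beq i j || (Nat.blt (nth (nthWord sepVec i) j 0) 2048 &&
    Nat.beq (act (nth cand i 128) (nth (nthWord sepVec i) j 0)) (nth (nthWord sepVec i) j 0) &&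
    !(Nat.beq (act (nth cand j 128) (nth (nthWord sepVec i) j 0)) (nth (nthWord sepVec i) j 0)))

end CfsgLib.Fi23Syl
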